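import Groth.Agent.Link31.Global

/-! Complete intersections of the right height are Gorenstein. -/

set_option autoImplicit false

universe u

open IsLocalRing RingTheory.Sequence Module

namespace Groth.Agent.Link31

/-- In a Gorenstein ring, an ideal of height `c` generated by `c` elements cuts out a Gorenstein ring. -/
theorem gorRing_quot_ci {S : Type u} [CommRing S] [LocCoh.IsGorensteinRing S] (gs : List S)
    (h : (Ideal.ofList gs).height = gs.length) : LocCoh.IsGorensteinRing (S ⧸ Ideal.ofList gs) where
  isGorensteinLocalRing_localization q _ := by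
    classical
    let I := Ideal.ofList gs
    let p := q.comap (Ideal.Quotient.mk I)
    have hIp : I ≤ p := le_comap_mk q
    let B := Localization.AtPrime p
    have hB : LocCoh.IsGorensteinLocalRing B := Gor18.gor_atPrime p B
    have hm : ∀ y ∈ gs.map (algebraMap S B), y ∈ maximalIdeal B := by
      intro y hy
      obtain ⟨x, hx, rfl⟩ := List.mem_map.1 hy
      exact (IsLocalization.AtPrime.to_map_mem_maximal_iff B p x).2 (hIp (Ideal.subset_span hx))
    have hle : Ideal.ofList (gs.map (algebraMap S B)) ≤ maximalIdeal B := EGA4Alg4.ofList_le hm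
    have hne : Ideal.ofList (gs.map (algebraMap S B)) ≠ ⊤ := fun e =>
      (maximalIdeal.isMaximal B).ne_top (top_le_iff.1 (e ▸ hle))
    have hht : (Ideal.ofList (gs.map (algebraMap S B))).height = (gs.length : ℕ) := by
      refine le_antisymm ?_ ?_
      · refine (Ideal.height_le_spanFinrank _ hne).trans ((Submodule.spanFinrank_span_le_encard _).trans ?_)
        rw [show {r | r ∈ gs.map (algebraMap S B)} = ((gs.map (algebraMap S B)).toFinset : Set B) from
          Set.ext fun x => by simp, Set.encard_coe_eq_coe_finsetCard]
        exact_mod_cast (List.toFinset_card_le _).trans_eq (List.length_map ..)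
      · rw [← h, ← Ideal.map_ofList, ← IsLocalization.height_under p.primeCompl (I.map (algebraMap S B))]
        exact Ideal.height_mono Ideal.le_comap_map
    have : Nontrivial (B ⧸ Ideal.ofList (gs.map (algebraMap S B))) := Ideal.Quotient.nontrivial_iff.2 hne
    have : IsLocalRing (B ⧸ Ideal.ofList (gs.map (algebraMap S B))) :=
      IsLocalRing.of_surjective' _ Ideal.Quotient.mk_surjective
    have hcm := Gor18.gor_cm B
    obtain ⟨n, hn⟩ := Gor18.gor_cm.exists_ringKrullDim_eq_nat B
    obtain ⟨d, hd⟩ := Liaison54.exists_dim_eq_nat (B := B ⧸ Ideal.ofList (gs.map (algebraMap S B)))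
    have hgd := LC17.GorExt.height_add_eq _ hht hd hn
    have hw : IsWeaklyRegular B (gs.map (algebraMap S B)) := by
      refine EGA4Alg4.isWeaklyRegular_of_supportDim hcm.supportDim_eq_depth hm ?_
      rw [smul_eq_mul, Ideal.mul_top, Module.supportDim_quotient_eq_ringKrullDim,
        Module.supportDim_self_eq_ringKrullDim, hd, hn, List.length_map, ← hgd, add_comm]
      push_cast
      rfl
    obtain ⟨e⟩ := Grass54.nonempty_quotientLocEquiv S p I q
      (Ideal.map_comap_of_surjective _ Ideal.Quotient.mk_surjective q).symm hIp
    refine (Gor18.gor_congr (R := B ⧸ I.map (algebraMap S B)) e).1 ?_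
    rw [show I.map (algebraMap S B) = Ideal.ofList (gs.map (algebraMap S B)) from Ideal.map_ofList _ _]
    exact (Gor18.gor_quotient_ofList_iff _ B _ rfl hm hw).1 hB

end Groth.Agent.Link31
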