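import Groth.Agent.Link31.Global
import Groth.Agent.CAlg4.TopLength

/-! Lengths under linkage: duality in an Artinian Gorenstein ring. -/

set_option autoImplicit false

universe u

open IsLocalRing Module

namespace Groth.Agent.Link31

/-- In an Artinian Gorenstein ring the annihilator has the length of the quotient. -/
theorem length_annihilator {A : Type u} [CommRing A] [LocCoh.IsGorensteinLocalRing A] [IsArtinianRing A]
    (N : Ideal A) : Module.length A ↥(Submodule.annihilator N) = Module.length A (A ⧸ N) := by
  have hanti : ∀ {a b : Ideal A}, a ≤ b → Submodule.annihilator b ≤ Submodule.annihilator a :=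
    fun h => Submodule.annihilator_mono h
  have hann : ∀ a : Ideal A, Submodule.annihilator (Submodule.annihilator a) = a := fun a => by
    refine le_antisymm (fun x hx => Liaison54.annihilator_annihilator_le a fun z hz => ?_) (fun x hx => ?_)
    · rw [← smul_eq_mul]
      exact Submodule.mem_annihilator.1 hx z (Submodule.mem_annihilator.2 fun t ht => hz t ht)
    · refine Submodule.mem_annihilator.2 fun z hz => ?_
      rw [smul_eq_mul, mul_comm]
      exact Submodule.mem_annihilator.1 hz x hx
  let d : Ideal A ≃o (Ideal A)ᵒᵈ :=
    { toFun := fun a => OrderDual.toDual (Submodule.annihilator a)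
      invFun := fun a => Submodule.annihilator (OrderDual.ofDual a)
      left_inv := fun a => hann a
      right_inv := fun a => by
        show OrderDual.toDual (Submodule.annihilator (Submodule.annihilator (OrderDual.ofDual a))) = a
        rw [hann, OrderDual.toDual_ofDual]
      map_rel_iff' := fun {a b} => ⟨fun h => by
        have h' := hanti (show Submodule.annihilator b ≤ Submodule.annihilator a from h)
        rwa [hann, hann] at h', fun h => hanti h⟩ }
  rw [Module.length_submodule, Module.length_quotient, ← Order.height_orderIso d, ← Order.height_toDual]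
  exact congrArg _ (congrArg OrderDual.toDual (hann N))

/-- The length of a ring over itself only depends on the ring. -/
theorem length_self_congr {A B : Type u} [CommRing A] [CommRing B] (e : A ≃+* B) :
    Module.length A A = Module.length B B := by
  rw [← WithBot.coe_inj, Module.coe_length, Module.coe_length]
  exact Order.krullDim_eq_of_orderIso e.symm.idealComapOrderIso

theorem length_quot_self {A : Type u} [CommRing A] (N : Ideal A) :
    Module.length A (A ⧸ N) = Module.length (A ⧸ N) (A ⧸ N) :=
  Module.length_eq_of_surjective Ideal.Quotient.mk_surjective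

variable {R : Type u} [CommRing R] (c P : Ideal R) [P.IsPrime]

open CAlg4.TopLength in
/-- The local length in terms of the local ring of `R/c`. -/
theorem locLen_quot {I : Ideal R} (hcI : c ≤ I) :
    locLen P (R ⧸ I) = Module.length (LocQ c P) (LocQ c P ⧸ I.map (φ c P)) := by
  let L := Localization.AtPrime P
  let f := Submodule.toLocalizedQuotient' L P.primeCompl (Algebra.linearMap R L) I
  have e := ((IsLocalizedModule.iso P.primeCompl f).extendScalarsOfIsLocalization P.primeCompl L).length_eq
  rw [Ideal.localized'_eq_map] at e
  show Module.length L (LocalizedModule P.primeCompl (R ⧸ I)) = _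
  rw [e, length_quot_self, length_quot_self (I.map (φ c P))]
  exact length_self_congr (quotIso c P hcI).symm

variable [IsNoetherianRing R]

open CAlg4.TopLength in
/-- Lengths add up under linkage. -/
theorem locLen_linked [LocCoh.IsGorensteinRing (R ⧸ c)] {I : Ideal R} (hcI : c ≤ I)
    (hP : P ∈ c.minimalPrimes) :
    locLen P (R ⧸ c) = locLen P (R ⧸ I) + locLen P (R ⧸ c.colon (I : Set R)) := by
  have hcP : c ≤ P := hP.1.2
  have := gor_locQ c P hcP
  have hq : (P.map (Ideal.Quotient.mk c)).IsPrime :=
    Ideal.map_isPrime_of_surjective Ideal.Quotient.mk_surjective (by rw [Ideal.mk_ker]; exact hcP)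
  obtain ⟨e⟩ := Grass54.nonempty_quotientLocEquiv R P c _ rfl hcP
  have hmin : P.map (Ideal.Quotient.mk c) ∈ minimalPrimes (R ⧸ c) := by
    refine ⟨⟨hq, bot_le⟩, fun Q hQ hQP => ?_⟩
    have := hQ.1
    have h1 : Q.comap (Ideal.Quotient.mk c) ≤ P := (Ideal.comap_mono hQP).trans_eq (by
      rw [Ideal.comap_map_of_surjective _ Ideal.Quotient.mk_surjective, ← RingHom.ker_eq_comap_bot,
        Ideal.mk_ker, sup_eq_left.2 hcP])
    have h2 := hP.2 ⟨inferInstance, le_comap_mk Q⟩ h1
    exact (Ideal.map_mono h2).trans (Ideal.map_comap_le)
  have := Liaison54.artinian_loc_minimal _ hmin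
  have : IsArtinianRing (LocQ c P) := e.symm.surjective.isArtinianRing (f := e.symm.toRingHom)
  rw [locLen_quot c P le_rfl, locLen_quot c P hcI, locLen_quot c P (Liaison54.le_colon c I),
    ← annihilator_map c P hcI, ← length_annihilator (I.map (φ c P)),
    ← Module.length_eq_add_of_exact (Submodule.annihilator (I.map (φ c P))).subtype
      (Submodule.mkQ _) (Submodule.subtype_injective _) (Submodule.mkQ_surjective _)
      (LinearMap.exact_subtype_mkQ _)]
  refine (Submodule.quotEquivOfEqBot _ ?_).length_eq
  rw [φ, ← Ideal.map_map, Ideal.map_quotient_self]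

end Groth.Agent.Link31
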