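import Groth.Prelude.Def_GrSyz
import Groth.Agent.EGAProj74.HilbDeg
import Groth.Agent.Link31.LinkLen

/-! Hilbert polynomials under linkage. -/

set_option autoImplicit false

universe u

open Polynomial
open Groth.Agent.EGAProj74 Groth.Agent.CAlgH2

namespace Groth.Agent.Link31

variable {k : Type u} [Field k] {n : ℕ}

local notation "R" => MvPolynomial (Fin (n + 1)) k
local notation "𝒜" => CohB1.polyGrading n k

theorem mem_stdGr_nat (j : ℕ) (x : R) :
    x ∈ GrSyz.stdGr k (Fin (n + 1)) (j : ℤ) ↔ x ∈ 𝒜 j := by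
  have hw : ∀ d : Fin (n + 1) →₀ ℕ, Finsupp.weight (fun _ : Fin (n + 1) => (1 : ℤ)) d = (d.degree : ℤ) :=
    fun d => by simp [Finsupp.weight_apply, Finsupp.sum, Finsupp.degree]
  rw [GrSyz.mem_stdGr_iff, MvPolynomial.mem_homogeneousSubmodule]
  constructor
  · intro h d hd
    have h1 := h hd
    rw [hw] at h1
    show Finsupp.weight (fun _ => 1) d = j
    rw [← Finsupp.degree_eq_weight_one]
    exact_mod_cast h1
  · intro h d hd
    have h1 : Finsupp.weight (fun _ : Fin (n + 1) => (1 : ℕ)) d = j := h hd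
    rw [← Finsupp.degree_eq_weight_one] at h1
    rw [hw, ← h1]

theorem isHomogeneous_poly {I : Ideal R} (hI : I.IsHomogeneous (GrSyz.stdGr k (Fin (n + 1)))) :
    I.IsHomogeneous 𝒜 := by
  obtain ⟨s, rfl⟩ := (Ideal.IsHomogeneous.iff_exists _ _).1 hI
  refine Ideal.homogeneous_span _ _ ?_
  rintro _ ⟨⟨x, j, hj⟩, -, rfl⟩
  by_cases hx : x = 0
  · exact ⟨0, hx ▸ zero_mem _⟩
  rcases Int.eq_nat_or_neg j with ⟨m, rfl | rfl⟩
  · exact ⟨m, (mem_stdGr_nat m x).1 hj⟩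
  · refine ⟨0, ?_⟩
    obtain ⟨d, hd⟩ := MvPolynomial.exists_coeff_ne_zero hx
    have h1 := ((GrSyz.mem_stdGr_iff _ _ _ _).1 hj) hd
    have h2 : 0 ≤ Finsupp.weight (fun _ : Fin (n + 1) => (1 : ℤ)) d := by
      simp [Finsupp.weight_apply, Finsupp.sum]
      positivity
    obtain rfl : m = 0 := by omega
    exact (mem_stdGr_nat 0 x).1 hj

theorem finrank_image (I : Ideal R) (j : ℕ) :
    (Module.finrank k ↥(Submodule.map (Ideal.Quotient.mkₐ k I).toLinearMap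
      (GrSyz.stdGr k (Fin (n + 1)) (j : ℤ))) : ℚ) = HilbDeg.hd I j := by
  rw [show GrSyz.stdGr k (Fin (n + 1)) (j : ℤ) = 𝒜 j from Submodule.ext (mem_stdGr_nat j)]
  set f := (Ideal.Quotient.mkₐ k I).toLinearMap.domRestrict (𝒜 j)
  have h := LinearMap.finrank_range_add_finrank_ker f
  have hr : LinearMap.range f = (𝒜 j).map (Ideal.Quotient.mkₐ k I).toLinearMap :=
    LinearMap.range_domRestrict _ _
  have hk : LinearMap.ker f = (HilbDeg.pc I j).comap (𝒜 j).subtype := by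
    ext ⟨x, hx⟩
    simp [f, HilbDeg.pc, hx, Ideal.Quotient.eq_zero_iff_mem]
  rw [hr, hk, (Submodule.comapSubtypeEquivOfLe (inf_le_right : HilbDeg.pc I j ≤ 𝒜 j)).finrank_eq] at h
  rw [HilbDeg.hd, ← h]
  push_cast
  ring

theorem isHP_of {I : Ideal R} {p : ℚ[X]}
    (h : ∃ j₀ : ℕ, ∀ j : ℕ, j₀ ≤ j → (Module.finrank k ↥(Submodule.map (Ideal.Quotient.mkₐ k I).toLinearMap
      (GrSyz.stdGr k (Fin (n + 1)) (j : ℤ))) : ℚ) = p.eval (j : ℚ)) : HilbDeg.IsHP I p := by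
  obtain ⟨j₀, hj⟩ := h
  exact ⟨j₀, fun m hm => by rw [← finrank_image, hj m hm]⟩

theorem height_add_trdeg (q : Ideal R) [q.IsPrime] : q.height + trdegQuot k q = (n + 1 : ℕ) := by
  rw [height_add_trdegQuot_eq_dimAt k q]
  obtain ⟨P, hP, -, he⟩ := exists_dimAt_eq k q
  rw [IsDomain.minimalPrimes_eq_singleton_bot, Set.mem_singleton_iff] at hP
  rw [he, hP, VarGal.trdegQuot_bot]

/-- The leading Hilbert coefficient adds up under linkage. -/
theorem coeff_linked {c : ℕ} (hcn : c ≤ n) {C I : Ideal R}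
    (hC : C.IsHomogeneous 𝒜) (hI : I.IsHomogeneous 𝒜) (hJ : (C.colon (I : Set R)).IsHomogeneous 𝒜)
    [LocCoh.IsGorensteinRing (R ⧸ C)] (hCc : C.height = c) (hCI : C ≤ I) {pC pI pJ : ℚ[X]}
    (hpC : HilbDeg.IsHP C pC) (hpI : HilbDeg.IsHP I pI) (hpJ : HilbDeg.IsHP (C.colon (I : Set R)) pJ) :
    pJ.coeff (n - c) = pC.coeff (n - c) - pI.coeff (n - c) := by
  have hle : ∀ q : Ideal R, q.IsPrime → C ≤ q → trdegQuot k q ≤ n + 1 - c := fun q hq h => by
    have h1 := height_add_trdeg (k := k) q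
    have h2 : (c : ℕ∞) ≤ q.height := hCc ▸ Ideal.height_mono h
    obtain ⟨m, hm⟩ := ENat.ne_top_iff_exists.1 (Ideal.height_ne_top (I := q) hq.ne_top)
    rw [← hm] at h1 h2
    norm_cast at h1 h2
    omega
  have hCJ : C ≤ C.colon (I : Set R) := Liaison54.le_colon C I
  set S := (HilbDeg.finite_top hle).toFinset with hSdef
  have hS : ∀ q : PrimeSpectrum R, q ∈ S ↔ C ≤ q.asIdeal ∧ trdegQuot k q.asIdeal = n + 1 - c := fun q => by
    rw [hSdef, Set.Finite.mem_toFinset]; rfl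
  have key : ∀ {X : Ideal R}, X.IsHomogeneous 𝒜 → C ≤ X → ∀ {p : ℚ[X]}, HilbDeg.IsHP X p →
      (∀ q ∈ S, CAlg4.TopLength.locLen q.asIdeal (R ⧸ X) ≠ ⊤) ∧
        p.coeff (n - c) = ∑ q ∈ S, ((CAlg4.TopLength.locLen q.asIdeal (R ⧸ X)).toNat : ℚ) *
          (HilbDeg.hp q.asIdeal).coeff (n - c) := by
    intro X hX hCX p hp
    obtain ⟨-, -, h⟩ := HilbDeg.good hX fun q hq hXq => hle q hq (hCX.trans hXq)
    obtain ⟨hfin, hsum⟩ := h S (fun q hq => ((hS q).1 hq).2) fun q h1 h2 => (hS q).2 ⟨hCX.trans h1, h2⟩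
    exact ⟨hfin, by rw [← hp.hp_eq]; exact hsum (n - c) (by omega)⟩
  obtain ⟨-, eC⟩ := key hC le_rfl hpC
  obtain ⟨fI, eI⟩ := key hI hCI hpI
  obtain ⟨fJ, eJ⟩ := key hJ hCJ hpJ
  rw [eC, eI, eJ, eq_sub_iff_add_eq, ← Finset.sum_add_distrib]
  refine Finset.sum_congr rfl fun q hq => ?_
  obtain ⟨hq1, hq2⟩ := (hS q).1 hq
  rw [locLen_linked C q.asIdeal hCI (HilbDeg.mem_minimalPrimes_of_eq hle hq1 hq2),
    ENat.toNat_add (fI q hq) (fJ q hq)]
  push_cast
  ring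

theorem colon_homogeneous {C I : Ideal R} (hC : C.IsHomogeneous 𝒜) (hI : I.IsHomogeneous 𝒜) :
    (C.colon (I : Set R)).IsHomogeneous 𝒜 := by
  obtain ⟨s, rfl⟩ := (Ideal.IsHomogeneous.iff_exists _ _).1 hI
  intro m x hx
  rw [Submodule.mem_colon]
  intro y hy
  induction hy using Submodule.span_induction with
  | mem y hy =>
    obtain ⟨⟨y, e, he⟩, hys, rfl⟩ := hy
    have h1 := hC (e + m) (show y * x ∈ C by
      rw [mul_comm]; exact Submodule.mem_colon.1 hx y (Ideal.subset_span ⟨_, hys, rfl⟩))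
    rw [HilbDeg.decompose_mul he] at h1
    rw [smul_eq_mul, mul_comm]
    exact h1
  | zero => simp
  | add a b _ _ ha hb => rw [smul_add]; exact add_mem ha hb
  | smul r a _ ha => rw [smul_comm]; exact C.smul_mem r ha

end Groth.Agent.Link31
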