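import Groth.Agent.Link31.Local
import Groth.Agent.Liaison54.Link
import Groth.Agent.Gor18.LCIRing
import Groth.Agent.LC17.GorExt

/-! Linkage in a polynomial ring, by localization. -/

set_option autoImplicit false

universe u

open IsLocalRing RingTheory.Sequence Module
open Groth.Agent.CAlg8.Linkage

namespace Groth.Agent.Link31

set_option maxHeartbeats 1000000
set_option synthInstance.maxHeartbeats 100000

variable {R : Type u} [CommRing R] (c P : Ideal R) [P.IsPrime]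

/-- The local ring of `R/c` at `P`. -/
abbrev LocQ : Type u := Localization.AtPrime P ⧸ c.map (algebraMap R (Localization.AtPrime P))

/-- The map to the local ring. -/
noncomputable def φ : R →+* LocQ c P :=
  (Ideal.Quotient.mk _).comp (algebraMap R (Localization.AtPrime P))

theorem exists_num (a : LocQ c P) : ∃ x s : R, s ∉ P ∧ a * φ c P s = φ c P x := by
  obtain ⟨l, rfl⟩ := Ideal.Quotient.mk_surjective a
  obtain ⟨⟨x, s⟩, h⟩ := IsLocalization.surj P.primeCompl l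
  exact ⟨x, s, s.2, by rw [φ, RingHom.comp_apply, RingHom.comp_apply, ← map_mul, h]⟩

theorem isUnit_φ {s : R} (hs : s ∉ P) : IsUnit (φ c P s) :=
  (IsLocalization.map_units (Localization.AtPrime P) (⟨s, hs⟩ : P.primeCompl)).map
    (Ideal.Quotient.mk (c.map (algebraMap R (Localization.AtPrime P))))

theorem mem_map_iff {I : Ideal R} (hcI : c ≤ I) (x : R) :
    φ c P x ∈ I.map (φ c P) ↔ ∃ s, s ∉ P ∧ s * x ∈ I := by
  constructor
  · intro h
    rw [φ, ← Ideal.map_map, RingHom.comp_apply,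
      ← Ideal.mem_comap, Ideal.comap_map_of_surjective _ Ideal.Quotient.mk_surjective,
      ← RingHom.ker_eq_comap_bot, Ideal.mk_ker, sup_eq_left.2 (Ideal.map_mono hcI),
      IsLocalization.algebraMap_mem_map_algebraMap_iff P.primeCompl] at h
    exact h
  · rintro ⟨s, hs, hsx⟩
    have h := Ideal.mem_map_of_mem (φ c P) hsx
    rw [map_mul] at h
    exact (Ideal.unit_mul_mem_iff_mem _ (isUnit_φ c P hs)).1 h

theorem eq_zero_iff (x : R) : φ c P x = 0 ↔ ∃ s, s ∉ P ∧ s * x ∈ c := by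
  rw [← mem_map_iff c P le_rfl, φ, ← Ideal.map_map, Ideal.map_quotient_self, Ideal.mem_bot]

variable {c P}

theorem map_le_maximal {I : Ideal R} [IsLocalRing (LocQ c P)] (hcP : c ≤ P) (hIP : I ≤ P) :
    I.map (φ c P) ≤ maximalIdeal (LocQ c P) := by
  rw [Ideal.map_le_iff_le_comap]
  intro x hx hu
  obtain ⟨a, ha⟩ := hu.exists_right_inv
  obtain ⟨z, s, hs, hz⟩ := exists_num c P a
  have h : φ c P (x * z - s) = 0 := by
    rw [map_sub, map_mul, ← hz, ← mul_assoc, ha, one_mul, sub_self]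
  obtain ⟨t, ht, htm⟩ := (eq_zero_iff c P _).1 h
  have h2 : t * s ∈ P := by
    rw [show t * s = t * (x * z) - t * (x * z - s) by ring]
    exact sub_mem (Ideal.mul_mem_left _ _ (Ideal.mul_mem_right _ _ (hIP hx))) (hcP htm)
  exact ((‹P.IsPrime›).mem_or_mem h2).elim ht hs

variable (c P)

/-- The quotient of the local ring. -/
noncomputable def quotIso {I : Ideal R} (hcI : c ≤ I) :
    LocQ c P ⧸ I.map (φ c P) ≃+* Localization.AtPrime P ⧸ I.map (algebraMap R (Localization.AtPrime P)) :=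
  (Ideal.quotEquivOfEq (by rw [φ, Ideal.map_map])).trans (DoubleQuot.quotQuotEquivQuotOfLE (Ideal.map_mono hcI))

/-- The local ring of a quotient. -/
theorem nonempty_equiv {I : Ideal R} (hcI : c ≤ I) (hIP : I ≤ P) :
    ∃ (q : Ideal (R ⧸ I)) (_ : q.IsPrime), Nonempty (LocQ c P ⧸ I.map (φ c P) ≃+* Localization.AtPrime q) := by
  have hq : (P.map (Ideal.Quotient.mk I)).IsPrime :=
    Ideal.map_isPrime_of_surjective Ideal.Quotient.mk_surjective (by rw [Ideal.mk_ker]; exact hIP)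
  obtain ⟨e⟩ := Grass54.nonempty_quotientLocEquiv R P I _ rfl hIP
  exact ⟨_, hq, ⟨(quotIso c P hcI).trans e⟩⟩

theorem gor_locQ [LocCoh.IsGorensteinRing (R ⧸ c)] (hcP : c ≤ P) : LocCoh.IsGorensteinLocalRing (LocQ c P) := by
  have hq : (P.map (Ideal.Quotient.mk c)).IsPrime :=
    Ideal.map_isPrime_of_surjective Ideal.Quotient.mk_surjective (by rw [Ideal.mk_ker]; exact hcP)
  obtain ⟨e⟩ := Grass54.nonempty_quotientLocEquiv R P c _ rfl hcP
  exact (Gor18.gor_congr e).2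
    (LocCoh.IsGorensteinRing.isGorensteinLocalRing_localization (P.map (Ideal.Quotient.mk c)))

theorem cm_map [LocCoh.IsGorensteinLocalRing (LocQ c P)] {I : Ideal R}
    [LocCoh.IsCohenMacaulayRing (R ⧸ I)] (hcI : c ≤ I) (hIP : I ≤ P) :
    LocCoh.IsCohenMacaulayModule (LocQ c P) (LocQ c P ⧸ I.map (φ c P)) := by
  obtain ⟨q, hq, ⟨e⟩⟩ := nonempty_equiv c P hcI hIP
  haveI : LocCoh.IsCohenMacaulayLocalRing (LocQ c P ⧸ I.map (φ c P)) :=
    CAlg1.cm_of_ringEquiv e.symm (LocCoh.IsCohenMacaulayRing.isCohenMacaulayLocalRing_localization q)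
  exact cm_quotient _

theorem annihilator_map [IsNoetherianRing R] {I : Ideal R} (hcI : c ≤ I) :
    Submodule.annihilator (I.map (φ c P)) = (c.colon (I : Set R)).map (φ c P) := by
  classical
  refine le_antisymm (fun a ha => ?_) (Ideal.map_le_iff_le_comap.2 fun x hx => ?_)
  · obtain ⟨x, s, hs, hxs⟩ := exists_num c P a
    rw [← Ideal.mul_unit_mem_iff_mem _ (isUnit_φ c P hs), hxs]
    obtain ⟨gs, hgs⟩ := IsNoetherian.noetherian I
    have hex : ∀ g ∈ gs, ∃ t, t ∉ P ∧ t * (x * g) ∈ c := fun g hg => by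
      refine (eq_zero_iff c P _).1 ?_
      rw [map_mul, ← hxs, mul_right_comm,
        show a * φ c P g = 0 from Submodule.mem_annihilator.1 ha _ (Ideal.mem_map_of_mem _ (hgs ▸ Submodule.subset_span hg)),
        zero_mul]
    choose! t ht htc using hex
    rw [mem_map_iff c P (Liaison54.le_colon c I)]
    refine ⟨∏ g ∈ gs, t g, fun h => ?_, Submodule.mem_colon.2 fun y hy => ?_⟩
    · obtain ⟨g, hg, hgP⟩ := (Ideal.IsPrime.prod_mem_iff (p := P)).1 h
      exact ht g hg hgP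
    · rw [SetLike.mem_coe, ← hgs] at hy
      induction hy using Submodule.span_induction with
      | mem g hg =>
        obtain ⟨w, hw⟩ := Finset.dvd_prod_of_mem t hg
        rw [smul_eq_mul, hw, show t g * w * x * g = w * (t g * (x * g)) by ring]
        exact c.mul_mem_left _ (htc g hg)
      | zero => simp
      | add u v _ _ hu hv => rw [smul_add]; exact add_mem hu hv
      | smul r u _ hu => rw [smul_comm]; exact c.smul_mem r hu
  · refine Submodule.mem_annihilator.2 fun y hy => ?_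
    have hle : I.map (φ c P) ≤ LinearMap.ker (LinearMap.mulLeft (LocQ c P) (φ c P x)) := by
      refine Ideal.map_le_iff_le_comap.2 fun g hg => ?_
      show φ c P x * φ c P g = 0
      rw [← map_mul]
      exact (eq_zero_iff c P _).2 ⟨1, fun h => (‹P.IsPrime›).ne_top ((Ideal.eq_top_iff_one _).2 h),
        by rw [one_mul]; exact Submodule.mem_colon.1 hx g hg⟩
    exact hle hy

theorem dim_map [IsNoetherianRing R] [LocCoh.IsGorensteinLocalRing (LocQ c P)] {I Q : Ideal R}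
    (hcI : c ≤ I) (hQ : Q ∈ c.minimalPrimes) (hIQ : I ≤ Q) (hQP : Q ≤ P) :
    ringKrullDim (LocQ c P ⧸ I.map (φ c P)) = ringKrullDim (LocQ c P) := by
  haveI := hQ.1.1
  refine le_antisymm (ringKrullDim_quotient_le _) ?_
  set L := Localization.AtPrime P
  have hdisj : Disjoint (P.primeCompl : Set R) Q := Set.disjoint_left.2 fun x hx hxQ => hx (hQP hxQ)
  haveI : (Q.map (algebraMap R L)).IsPrime :=
    IsLocalization.isPrime_of_isPrime_disjoint P.primeCompl L Q inferInstance hdisj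
  have hQL : Q.map (algebraMap R L) ∈ (c.map (algebraMap R L)).minimalPrimes := by
    refine ⟨⟨inferInstance, Ideal.map_mono hQ.1.2⟩, fun J hJ hJQ => ?_⟩
    haveI := hJ.1
    have h1 : J.comap (algebraMap R L) ≤ Q :=
      (Ideal.comap_mono (f := algebraMap R L) hJQ).trans_eq
        (IsLocalization.comap_map_of_isPrime_disjoint P.primeCompl L inferInstance hdisj)
    have h2 : Q ≤ J.comap (algebraMap R L) :=
      hQ.2 ⟨inferInstance, (Ideal.le_comap_map).trans (Ideal.comap_mono hJ.2)⟩ h1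
    exact Ideal.map_le_iff_le_comap.2 h2
  have e := ringKrullDim_eq_of_ringEquiv (R := LocQ c P ⧸ I.map (φ c P))
    (S := L ⧸ I.map (algebraMap R L)) (quotIso c P hcI)
  have h2 := Liaison54.dim_quot_of_minimal (Gor18.gor_cm (LocQ c P)) hQL
  rw [e, ← h2]
  exact ringKrullDim_le_of_surjective _ (Ideal.Quotient.factor_surjective (Ideal.map_mono hIQ))

section Ring

variable [IsNoetherianRing R] {c}

theorem exists_below {I : Ideal R} (hI : ∀ Q ∈ I.minimalPrimes, Q ∈ c.minimalPrimes) {P : Ideal R}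
    [P.IsPrime] (hIP : I ≤ P) : ∃ Q ∈ c.minimalPrimes, I ≤ Q ∧ Q ≤ P := by
  obtain ⟨Q, hQ, hQP⟩ := Ideal.exists_minimalPrimes_le hIP
  exact ⟨Q, hI Q hQ, hQ.1.2, hQP⟩

omit P in
theorem le_comap_mk {J : Ideal R} (q : Ideal (R ⧸ J)) : J ≤ q.comap (Ideal.Quotient.mk J) := fun x hx => by
  rw [Ideal.mem_comap, Ideal.Quotient.eq_zero_iff_mem.2 hx]
  exact zero_mem _

omit P in
theorem loc_equiv {J : Ideal R} (hcJ : c ≤ J) (q : Ideal (R ⧸ J)) [q.IsPrime] :
    Nonempty (LocQ c (q.comap (Ideal.Quotient.mk J)) ⧸ J.map (φ c _) ≃+* Localization.AtPrime q) := by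
  obtain ⟨e⟩ := Grass54.nonempty_quotientLocEquiv R (q.comap (Ideal.Quotient.mk J)) J q
    (Ideal.map_comap_of_surjective _ Ideal.Quotient.mk_surjective q).symm (le_comap_mk q)
  exact ⟨(quotIso c _ hcJ).trans e⟩

omit P in
theorem cm_of_linked {I J : Ideal R} [LocCoh.IsGorensteinRing (R ⧸ c)]
    (hIJ : c.colon (I : Set R) = J) (hJI : c.colon (J : Set R) = I)
    (h : LocCoh.IsCohenMacaulayRing (R ⧸ I)) : LocCoh.IsCohenMacaulayRing (R ⧸ J) where
  isCohenMacaulayLocalRing_localization q _ := by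
    have hcI : c ≤ I := hJI ▸ Liaison54.le_colon c J
    have hcJ : c ≤ J := hIJ ▸ Liaison54.le_colon c I
    have hmin : ∀ Q ∈ I.minimalPrimes, Q ∈ c.minimalPrimes := fun Q hQ => by
      haveI := Liaison54.cm_of_gor (R ⧸ c)
      refine Liaison54.ass_quot_minimal (Liaison54.ass_colon_subset c J ?_)
      rw [hJI]
      exact Liaison54.minimal_mem_ass hQ
    set P := q.comap (Ideal.Quotient.mk J)
    have hJP : J ≤ P := le_comap_mk q
    haveI := gor_locQ c P (hcJ.trans hJP)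
    obtain ⟨e⟩ := loc_equiv hcJ q
    refine CAlg1.cm_of_ringEquiv (A := LocQ c P ⧸ J.map (φ c P)) e ?_
    have hann := annihilator_map c P hcI
    rw [hIJ] at hann
    rw [← hann]
    by_cases hIP : I ≤ P
    · obtain ⟨Q, hQ, hIQ, hQP⟩ := exists_below hmin hIP
      exact cm_linked (cm_map c P hcI hIP) (supportDim_eq (dim_map c P hcI hQ hIQ hQP))
        (hann ▸ map_le_maximal (hcJ.trans hJP) hJP)
    · obtain ⟨i, hi, hiP⟩ := Set.not_subset.1 hIP
      rw [show I.map (φ c P) = ⊤ from Ideal.eq_top_of_isUnit_mem _ (Ideal.mem_map_of_mem _ hi) (isUnit_φ c P hiP),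
        show Submodule.annihilator (⊤ : Ideal (LocQ c P)) = ⊥ from eq_bot_iff.2 fun a ha => by
          simpa using Submodule.mem_annihilator.1 ha 1 trivial]
      exact CAlg1.cm_of_ringEquiv (RingEquiv.quotientBot _).symm (Gor18.gor_cm _)

omit P in
theorem gor_linked {f : R} [LocCoh.IsGorensteinRing (R ⧸ c)] {I J : Ideal R} (hIf : I = c ⊔ Ideal.span {f})
    [LocCoh.IsCohenMacaulayRing (R ⧸ I)] (hmin : ∀ Q ∈ I.minimalPrimes, Q ∈ c.minimalPrimes)
    (hIJ : c.colon (I : Set R) = J) : LocCoh.IsGorensteinRing (R ⧸ J) where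
  isGorensteinLocalRing_localization q _ := by
    have hcI : c ≤ I := hIf ▸ le_sup_left
    have hcJ : c ≤ J := hIJ ▸ Liaison54.le_colon c I
    set P := q.comap (Ideal.Quotient.mk J)
    have hJP : J ≤ P := le_comap_mk q
    haveI := gor_locQ c P (hcJ.trans hJP)
    obtain ⟨e⟩ := loc_equiv hcJ q
    refine (Gor18.gor_congr (R := LocQ c P ⧸ J.map (φ c P)) e).1 ?_
    have hmap : I.map (φ c P) = Ideal.span {φ c P f} := by
      rw [hIf, Ideal.map_sup, show c.map (φ c P) = ⊥ by rw [φ, ← Ideal.map_map, Ideal.map_quotient_self],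
        bot_sup_eq, Ideal.map_span, Set.image_singleton]
    have hann := annihilator_map c P hcI
    rw [hIJ] at hann
    rw [← hann]
    by_cases hIP : I ≤ P
    · obtain ⟨Q, hQ, hIQ, hQP⟩ := exists_below hmin hIP
      have hle : Submodule.annihilator (I.map (φ c P)) ≤ maximalIdeal (LocQ c P) :=
        hann ▸ map_le_maximal (hcJ.trans hJP) hJP
      have h1 := cm_map c P hcI hIP
      have h2 := supportDim_eq (dim_map c P hcI hQ hIQ hQP)
      rw [hmap] at h1 h2 hle ⊢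
      exact gor_linked_principal h1 h2 hle
    · obtain ⟨i, hi, hiP⟩ := Set.not_subset.1 hIP
      rw [show I.map (φ c P) = ⊤ from Ideal.eq_top_of_isUnit_mem _ (Ideal.mem_map_of_mem _ hi) (isUnit_φ c P hiP),
        show Submodule.annihilator (⊤ : Ideal (LocQ c P)) = ⊥ from eq_bot_iff.2 fun a ha => by
          simpa using Submodule.mem_annihilator.1 ha 1 trivial]
      exact (Gor18.gor_congr (RingEquiv.quotientBot _)).2 inferInstance

end Ring

section Union

variable {R : Type u} [CommRing R] [IsNoetherianRing R] {I₁ I₂ : Ideal R}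
  [LocCoh.IsCohenMacaulayRing (R ⧸ I₁)] [LocCoh.IsCohenMacaulayRing (R ⧸ I₂)]
  [LocCoh.IsGorensteinRing (R ⧸ (I₁ ⊓ I₂))]
  (hm₁ : ∀ Q ∈ I₁.minimalPrimes, ¬ I₂ ≤ Q) (hm₂ : ∀ Q ∈ I₂.minimalPrimes, ¬ I₁ ≤ Q)

omit [LocCoh.IsGorensteinRing (R ⧸ (I₁ ⊓ I₂))] [LocCoh.IsCohenMacaulayRing (R ⧸ I₁)] in
include hm₂ in
theorem colon_eq_right : (I₁ ⊓ I₂).colon (I₁ : Set R) = I₂ := by
  refine le_antisymm (fun x hx => ?_) fun x hx => Submodule.mem_colon.2 fun i hi =>
    ⟨Ideal.mul_mem_left _ _ hi, Ideal.mul_mem_right _ _ hx⟩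
  by_contra hxI
  obtain ⟨P, hP, hle⟩ := Liaison54.exists_ass_colon hxI
  refine hm₂ P (Liaison54.ass_quot_minimal hP) fun i hi => hle (Submodule.mem_colon_singleton.2 ?_)
  rw [smul_eq_mul, mul_comm]
  exact (Submodule.mem_colon.1 hx i hi).2

include hm₁ hm₂ in
theorem union_local {P : Ideal R} [P.IsPrime] (hP : I₁ ⊔ I₂ ≤ P) :
    LocCoh.IsGorensteinLocalRing (LocQ (I₁ ⊓ I₂) P ⧸ (I₁ ⊔ I₂).map (φ (I₁ ⊓ I₂) P)) ∧
    (P ∈ (I₁ ⊔ I₂).minimalPrimes → ∃ (Q : Ideal R) (y : R), Q ∈ (I₁ ⊓ I₂).minimalPrimes ∧ Q ≤ P ∧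
      P ∈ (Q ⊔ Ideal.span {y}).minimalPrimes) := by
  classical
  set c := I₁ ⊓ I₂ with hc
  have hsplit : ∀ Q ∈ c.minimalPrimes, Q ∈ I₁.minimalPrimes ∨ Q ∈ I₂.minimalPrimes := fun Q hQ => by
    rcases hQ.1.1.inf_le.1 hQ.1.2 with h | h
    · exact Or.inl ⟨⟨hQ.1.1, h⟩, fun J hJ hJQ => hQ.2 ⟨hJ.1, inf_le_left.trans hJ.2⟩ hJQ⟩
    · exact Or.inr ⟨⟨hQ.1.1, h⟩, fun J hJ hJQ => hQ.2 ⟨hJ.1, inf_le_right.trans hJ.2⟩ hJQ⟩
  have hmin₁ : ∀ Q ∈ I₁.minimalPrimes, Q ∈ c.minimalPrimes := fun Q hQ => by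
    refine ⟨⟨hQ.1.1, inf_le_left.trans hQ.1.2⟩, fun J hJ hJQ => ?_⟩
    rcases hJ.1.inf_le.1 hJ.2 with h | h
    · exact hQ.2 ⟨hJ.1, h⟩ hJQ
    · exact absurd (h.trans hJQ) (hm₁ Q hQ)
  have hmin₂ : ∀ Q ∈ I₂.minimalPrimes, Q ∈ c.minimalPrimes := fun Q hQ => by
    refine ⟨⟨hQ.1.1, inf_le_right.trans hQ.1.2⟩, fun J hJ hJQ => ?_⟩
    rcases hJ.1.inf_le.1 hJ.2 with h | h
    · exact absurd (h.trans hJQ) (hm₂ Q hQ)
    · exact hQ.2 ⟨hJ.1, h⟩ hJQ
  have hcP : c ≤ P := inf_le_left.trans (le_sup_left.trans hP)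
  haveI := gor_locQ c P hcP
  -- an element of `I₁ + I₂` regular modulo `c`
  obtain ⟨y, hy, hyQ⟩ : ∃ y ∈ I₁ ⊔ I₂, ∀ Q ∈ c.minimalPrimes, y ∉ Q := by
    have hfin := c.finite_minimalPrimes_of_isNoetherianRing
    have h : ¬ ((I₁ ⊔ I₂ : Ideal R) : Set R) ⊆ ⋃ Q ∈ (hfin.toFinset : Set (Ideal R)), (Q : Set R) := by
      rw [Ideal.subset_union_prime ⊥ ⊥ fun Q hQ _ _ => (hfin.mem_toFinset.1 hQ).1.1]
      rintro ⟨Q, hQ, hle⟩
      rcases hsplit Q (hfin.mem_toFinset.1 hQ) with h | h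
      · exact hm₁ Q h (le_sup_right.trans hle)
      · exact hm₂ Q h (le_sup_left.trans hle)
    obtain ⟨y, hy, hy'⟩ := Set.not_subset.1 h
    exact ⟨y, hy, fun Q hQ hyQ => hy' (Set.mem_iUnion₂.2 ⟨Q, hfin.mem_toFinset.2 hQ, hyQ⟩)⟩
  haveI := Liaison54.cm_of_gor (R ⧸ c)
  have hreg : IsSMulRegular (LocQ c P) (φ c P y) := IsSMulRegular.of_right_eq_zero_of_smul fun a ha => by
    obtain ⟨x, s, hs, hxs⟩ := exists_num c P a
    refine (isUnit_φ c P hs).mul_left_eq_zero.1 ?_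
    rw [hxs]
    obtain ⟨t, ht, htx⟩ := (eq_zero_iff c P (y * x)).1 (by
      rw [map_mul, ← hxs, ← mul_assoc, show φ c P y * a = 0 from ha, zero_mul])
    refine (eq_zero_iff c P x).2 ⟨t, ht, ?_⟩
    by_contra hcon
    obtain ⟨Q, hQ, hle⟩ := Liaison54.exists_ass_colon hcon
    refine hyQ Q (Liaison54.ass_quot_minimal hQ) (hle (Submodule.mem_colon_singleton.2 ?_))
    rw [smul_eq_mul, mul_left_comm]
    exact htx
  obtain ⟨Q₁, hQ₁, hIQ₁, hQP₁⟩ := exists_below hmin₁ (le_sup_left.trans hP)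
  obtain ⟨Q₂, hQ₂, hIQ₂, hQP₂⟩ := exists_below hmin₂ (le_sup_right.trans hP)
  have hann₁ := annihilator_map c P (I := I₁) inf_le_left
  rw [colon_eq_right hm₂] at hann₁
  have hann₂ := annihilator_map c P (I := I₂) inf_le_right
  rw [show c.colon (I₂ : Set R) = I₁ by
    have h := colon_eq_right (I₁ := I₂) (I₂ := I₁) hm₁
    rwa [inf_comm] at h] at hann₂
  have hinf : I₁.map (φ c P) ⊓ I₂.map (φ c P) = ⊥ := by
    rw [eq_bot_iff]
    rintro a ⟨h1, h2⟩
    obtain ⟨x, s, hs, hxs⟩ := exists_num c P a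
    have h1' : φ c P x ∈ I₁.map (φ c P) := hxs ▸ Ideal.mul_mem_right _ _ h1
    have h2' : φ c P x ∈ I₂.map (φ c P) := hxs ▸ Ideal.mul_mem_right _ _ h2
    obtain ⟨t, ht, htx⟩ := (mem_map_iff c P inf_le_left x).1 h1'
    obtain ⟨t', ht', htx'⟩ := (mem_map_iff c P inf_le_right x).1 h2'
    rw [Ideal.mem_bot]
    refine (isUnit_φ c P hs).mul_left_eq_zero.1 ?_
    rw [hxs, eq_zero_iff]
    refine ⟨t * t', fun h => ((‹P.IsPrime›).mem_or_mem h).elim ht ht', ?_, ?_⟩
    · show t * t' * x ∈ I₁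
      rw [mul_right_comm]; exact I₁.mul_mem_right _ htx
    · show t * t' * x ∈ I₂
      rw [mul_assoc]; exact I₂.mul_mem_left _ htx'
  have hmain := gor_sup_linked (cm_map c P inf_le_left (le_sup_left.trans hP))
    (supportDim_eq (dim_map c P inf_le_left hQ₁ hIQ₁ hQP₁)) (cm_map c P inf_le_right (le_sup_right.trans hP))
    (supportDim_eq (dim_map c P inf_le_right hQ₂ hIQ₂ hQP₂)) hinf hann₁ hann₂
    (Ideal.map_sup (φ c P) I₁ I₂ ▸ map_le_maximal hcP hP) (y := φ c P y)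
    (Ideal.map_sup (φ c P) I₁ I₂ ▸ Ideal.mem_map_of_mem _ hy) hreg
  rw [← Ideal.map_sup] at hmain
  refine ⟨hmain.1, fun hPmin => ⟨Q₁, y, hQ₁, hQP₁, ⟨⟨inferInstance, ?_⟩, fun P' hP' hP'P => ?_⟩⟩⟩
  · exact sup_le hQP₁ ((Ideal.span_singleton_le_iff_mem _).2 (hP hy))
  intro z hz
  obtain ⟨xs, hxs, hRQ, hA⟩ := hmain.2
  cases xs with
  | cons x t =>
    exfalso
    -- `P` is associated to `R/(I₁+I₂)`, so nothing is regular on the local quotient
    obtain ⟨hPp, w, hw⟩ := isAssociatedPrime_iff.1 (Liaison54.minimal_mem_ass hPmin)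
    obtain ⟨w, rfl⟩ := Ideal.Quotient.mk_surjective w
    rw [Liaison54.colon_bot_mk] at hw
    have hwn : φ c P w ∉ (I₁ ⊔ I₂).map (φ c P) := fun h => by
      obtain ⟨s, hs, hsw⟩ := (mem_map_iff c P (inf_le_left.trans le_sup_left) w).1 h
      exact hs (by rw [hw, Submodule.mem_colon_singleton]; exact hsw)
    refine hwn ?_
    obtain ⟨x', s, hs, hxs'⟩ := exists_num c P x
    have hxm : x ∈ maximalIdeal (LocQ c P) := hxs x List.mem_cons_self
    have hx'P : x' ∈ P := by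
      by_contra hx'
      have hu := isUnit_φ c P hx'
      rw [← hxs'] at hu
      exact hxm (isUnit_of_mul_isUnit_left hu)
    have h1 := hRQ 0 (by simp) (φ c P s * φ c P w)
    simp only [List.getElem_cons_zero, List.take_zero, Ideal.ofList_nil, sup_bot_eq] at h1
    refine (Ideal.unit_mul_mem_iff_mem _ (isUnit_φ c P hs)).1 (h1 ?_)
    rw [← mul_assoc, hxs', ← map_mul]
    rw [hw, Submodule.mem_colon_singleton] at hx'P
    exact Ideal.mem_map_of_mem _ hx'P
  | nil =>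
    haveI := hP'.1
    haveI : Nontrivial (LocQ c P ⧸ Ideal.ofList [φ c P y]) := nontrivial_ofList (by
      intro r hr
      rw [List.mem_singleton.1 hr]
      exact map_le_maximal hcP hP (Ideal.mem_map_of_mem _ hy))
    haveI : IsLocalRing (LocQ c P ⧸ Ideal.ofList [φ c P y]) :=
      IsLocalRing.of_surjective' _ Ideal.Quotient.mk_surjective
    obtain ⟨k, hk⟩ := (isArtinianRing_iff_isNilpotent_maximalIdeal _).1 hA
    have hloc : IsLocalHom (Ideal.Quotient.mk (Ideal.ofList [φ c P y])) :=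
      IsLocalHom.of_surjective _ Ideal.Quotient.mk_surjective
    have hzm : Ideal.Quotient.mk (Ideal.ofList [φ c P y]) (φ c P z) ∈
        maximalIdeal (LocQ c P ⧸ Ideal.ofList [φ c P y]) := fun hu =>
      map_le_maximal hcP le_rfl (Ideal.mem_map_of_mem _ hz) (hloc.map_nonunit _ hu)
    have hzk := Ideal.pow_mem_pow hzm k
    rw [hk, ← map_pow, ← map_pow, Ideal.zero_eq_bot, Ideal.mem_bot, Ideal.Quotient.eq_zero_iff_mem,
      Ideal.ofList_singleton] at hzk
    have hmem : φ c P (z ^ k) ∈ (c ⊔ Ideal.span {y}).map (φ c P) := by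
      rw [Ideal.map_sup, Ideal.map_span, Set.image_singleton]
      exact Ideal.mem_sup_right hzk
    obtain ⟨s, hs, hsz⟩ := (mem_map_iff c P le_sup_left _).1 hmem
    have hcP' : c ⊔ Ideal.span {y} ≤ P' :=
      sup_le (hQ₁.1.2.trans (le_sup_left.trans hP'.2)) (le_sup_right.trans hP'.2)
    exact hP'.1.mem_of_pow_mem k (((hP'.1).mem_or_mem (hcP' hsz)).resolve_left fun h => hs (hP'P h))

end Union

end Groth.Agent.Link31
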