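import Groth.Agent.CAlg8.Linkage
import Groth.Agent.Liaison54.Basic

/-! Linkage over a Gorenstein local ring: Cohen–Macaulayness, almost complete intersections, unions. -/

set_option autoImplicit false

universe u

open IsLocalRing RingTheory.Sequence Module
open Groth.Agent.CAlg8.Linkage

namespace Groth.Agent.Link31

/-- An Artinian Gorenstein ring modulo the annihilator of a nonzero element is Gorenstein. -/
theorem gor_quot_ann {G : Type u} [CommRing G] [LocCoh.IsGorensteinLocalRing G] [IsArtinianRing G]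
    {z : G} (hz : z ≠ 0) :
    LocCoh.IsGorensteinLocalRing (G ⧸ (Submodule.span G {z}).annihilator) := by
  set K := (Submodule.span G {z}).annihilator
  have hK : ∀ a, a ∈ K ↔ a * z = 0 := fun a => Submodule.mem_annihilator_span_singleton z a
  have : Nontrivial (G ⧸ K) := Ideal.Quotient.nontrivial_iff.2 fun h => hz (by
    simpa using (hK 1).1 (h ▸ Submodule.mem_top))
  have : IsLocalRing (G ⧸ K) := IsLocalRing.of_surjective' _ Ideal.Quotient.mk_surjective
  have : IsArtinianRing (G ⧸ K) := Ideal.Quotient.mk_surjective.isArtinianRing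
  have hloc : IsLocalHom (Ideal.Quotient.mk K) := IsLocalHom.of_surjective _ Ideal.Quotient.mk_surjective
  have hkey : ∀ a : G, Ideal.Quotient.mk K a ∈ LocCoh.torsionBy (maximalIdeal (G ⧸ K)) (G ⧸ K) →
      a * z ∈ LocCoh.torsionBy (maximalIdeal G) G := fun a ha => by
    refine (Submodule.mem_torsionBySet_iff _ _).2 ?_
    rintro ⟨x, hx⟩
    have hxK : Ideal.Quotient.mk K x ∈ maximalIdeal (G ⧸ K) := fun hu => hx (hloc.map_nonunit x hu)
    have h1 : Ideal.Quotient.mk K x • Ideal.Quotient.mk K a = 0 :=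
      (Submodule.mem_torsionBySet_iff _ _).1 ha ⟨_, hxK⟩
    rw [smul_eq_mul, ← map_mul, Ideal.Quotient.eq_zero_iff_mem, hK] at h1
    show x • (a * z) = 0
    rw [smul_eq_mul, ← mul_assoc, h1]
  refine Gor18.artinian_gor_iff_simple_socle.2 (isSimpleModule_iff_toSpanSingleton_surjective.2
    ⟨Submodule.nontrivial_iff_ne_bot.2 Gor18.socle_ne_bot_of_isArtinianRing, fun s hs t => ?_⟩)
  obtain ⟨s, hs'⟩ := s
  obtain ⟨t, ht'⟩ := t
  obtain ⟨a, rfl⟩ := Ideal.Quotient.mk_surjective s
  obtain ⟨b, rfl⟩ := Ideal.Quotient.mk_surjective t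
  have haz : a * z ≠ 0 := fun h => hs (Subtype.ext (Ideal.Quotient.eq_zero_iff_mem.2 ((hK a).2 h)))
  obtain ⟨c, hc⟩ := (isSimpleModule_iff_toSpanSingleton_surjective.1
    ((Gor18.artinian_gor_iff_simple_socle (A := G)).1 inferInstance)).2
    (⟨a * z, hkey a hs'⟩ : LocCoh.torsionBy (maximalIdeal G) G) (fun h => haz (congrArg Subtype.val h))
    ⟨b * z, hkey b ht'⟩
  have hc' : c * (a * z) = b * z := congrArg Subtype.val hc
  refine ⟨Ideal.Quotient.mk K c, Subtype.ext ?_⟩
  show Ideal.Quotient.mk K c * Ideal.Quotient.mk K a = Ideal.Quotient.mk K b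
  rw [← map_mul, Ideal.Quotient.eq, hK, sub_mul, mul_assoc, hc', sub_self]

variable {A : Type u} [CommRing A] [LocCoh.IsGorensteinLocalRing A]

theorem nontrivial_ofList {rs : List A} (hm : ∀ r ∈ rs, r ∈ maximalIdeal A) :
    Nontrivial (A ⧸ Ideal.ofList rs) :=
  Ideal.Quotient.nontrivial_iff.2 fun h =>
    (maximalIdeal.isMaximal A).ne_top (top_le_iff.1 (h ▸ EGA4Alg4.ofList_le hm))

/-- A regular sequence extends to one with Artinian Gorenstein quotient. -/
theorem exists_cut (rs : List A) (hm : ∀ r ∈ rs, r ∈ maximalIdeal A) (h : IsWeaklyRegular A rs) :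
    ∃ ts : List A, (∀ r ∈ rs ++ ts, r ∈ maximalIdeal A) ∧ IsWeaklyRegular A (rs ++ ts) ∧
      ∃ _ : LocCoh.IsGorensteinLocalRing (A ⧸ Ideal.ofList (rs ++ ts)),
        IsArtinianRing (A ⧸ Ideal.ofList (rs ++ ts)) := by
  obtain ⟨n, hn⟩ := EGA4Alg4.exists_supportDim_eq (A := A) (M := A)
  suffices ∀ (k : ℕ) (rs : List A), n ≤ rs.length + k → (∀ r ∈ rs, r ∈ maximalIdeal A) →
      IsWeaklyRegular A rs → ∃ ts : List A, (∀ r ∈ rs ++ ts, r ∈ maximalIdeal A) ∧
        IsWeaklyRegular A (rs ++ ts) ∧ ∃ _ : LocCoh.IsGorensteinLocalRing (A ⧸ Ideal.ofList (rs ++ ts)),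
          IsArtinianRing (A ⧸ Ideal.ofList (rs ++ ts)) from this n rs (Nat.le_add_left _ _) hm h
  clear hm h rs
  intro k
  induction k with
  | zero =>
    intro rs hk hm h
    refine ⟨[], by simpa using hm, by simpa using h, ?_⟩
    rw [List.append_nil]
    have := nontrivial_ofList hm
    have : IsLocalRing (A ⧸ Ideal.ofList rs) := IsLocalRing.of_surjective' _ Ideal.Quotient.mk_surjective
    have hG := (Gor18.gor_quotient_ofList_iff rs.length A rs rfl hm h).1 inferInstance
    refine ⟨hG, Gor18.isArtinianRing_of_socle_ne_bot fun h0 => ?_⟩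
    obtain ⟨z, hz, hzreg⟩ := Gor18.socle_eq_bot_iff_exists_regular.1 h0
    obtain ⟨x, rfl⟩ := Ideal.Quotient.mk_surjective z
    have hxm : x ∈ maximalIdeal A := fun hu => hz (hu.map _)
    have hm2 : ∀ r ∈ rs ++ [x], r ∈ maximalIdeal A := fun r hr =>
      (List.mem_append.1 hr).elim (hm r) fun hr => by rw [List.mem_singleton.1 hr]; exact hxm
    have h2 : IsWeaklyRegular A (rs ++ [x]) := (regQ_bot_iff _).1 (regQ_append.2
      ⟨(regQ_bot_iff _).2 h, fun a ha => by
        rw [bot_sup_eq] at ha ⊢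
        rw [← Ideal.Quotient.eq_zero_iff_mem] at ha ⊢
        rw [map_mul] at ha
        exact hzreg.right_eq_zero_of_smul ha⟩)
    have h3 := EGA4Alg4.length_le_supportDim h2 hm2
    rw [hn, List.length_append, List.length_singleton] at h3
    have : rs.length + 1 ≤ n := by exact_mod_cast h3
    omega
  | succ k ih =>
    intro rs hk hm h
    by_cases hx : ∃ x ∈ maximalIdeal A, ∀ a, x * a ∈ Ideal.ofList rs → a ∈ Ideal.ofList rs
    · obtain ⟨x, hxm, hx⟩ := hx
      obtain ⟨ts, h1, h2, h3⟩ := ih (rs ++ [x]) (by simp; omega)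
        (fun r hr => (List.mem_append.1 hr).elim (hm r) fun hr => by rw [List.mem_singleton.1 hr]; exact hxm)
        ((regQ_bot_iff _).1 (regQ_append.2 ⟨(regQ_bot_iff _).2 h, fun a ha => by
          rw [bot_sup_eq] at ha ⊢; exact hx a ha⟩))
      refine ⟨x :: ts, ?_⟩
      rw [show rs ++ x :: ts = rs ++ [x] ++ ts by simp]
      exact ⟨h1, h2, h3⟩
    · refine ⟨[], by simpa using hm, by simpa using h, ?_⟩
      rw [List.append_nil]
      have := nontrivial_ofList hm
      have : IsLocalRing (A ⧸ Ideal.ofList rs) := IsLocalRing.of_surjective' _ Ideal.Quotient.mk_surjective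
      have hG := (Gor18.gor_quotient_ofList_iff rs.length A rs rfl hm h).1 inferInstance
      refine ⟨hG, Gor18.isArtinianRing_of_socle_ne_bot fun h0 => ?_⟩
      obtain ⟨z, hz, hzreg⟩ := Gor18.socle_eq_bot_iff_exists_regular.1 h0
      obtain ⟨x, rfl⟩ := Ideal.Quotient.mk_surjective z
      refine hx ⟨x, fun hu => hz (hu.map _), fun a ha => ?_⟩
      rw [← Ideal.Quotient.eq_zero_iff_mem] at ha ⊢
      rw [map_mul] at ha
      exact hzreg.right_eq_zero_of_smul ha

/-- Descending the Gorenstein property along a regular sequence. -/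
theorem gor_of_cut {N : Ideal A} (hN : N ≤ maximalIdeal A) {rs : List A}
    (hm : ∀ r ∈ rs, r ∈ maximalIdeal A) (hr : RegQ N rs)
    (h : LocCoh.IsGorensteinLocalRing (A ⧸ (N ⊔ Ideal.ofList rs))) :
    LocCoh.IsGorensteinLocalRing (A ⧸ N) := by
  have : Nontrivial (A ⧸ N) := Ideal.Quotient.nontrivial_iff.2 fun e =>
    (maximalIdeal.isMaximal A).ne_top (top_le_iff.1 (e ▸ hN))
  have : IsLocalRing (A ⧸ N) := IsLocalRing.of_surjective' _ Ideal.Quotient.mk_surjective
  have hloc : IsLocalHom (algebraMap A (A ⧸ N)) := IsLocalHom.of_surjective _ Ideal.Quotient.mk_surjective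
  have hw : IsWeaklyRegular (A ⧸ N) (rs.map (algebraMap A (A ⧸ N))) :=
    (isWeaklyRegular_map_algebraMap_iff (A ⧸ N) (A ⧸ N) rs).2 ((regQ_iff N rs).1 hr)
  refine (Gor18.gor_quotient_ofList_iff _ (A ⧸ N) _ rfl (fun x hx => ?_) hw).2 ?_
  · obtain ⟨r, hr', rfl⟩ := List.mem_map.1 hx
    exact fun hu => hm r hr' (hloc.map_nonunit r hu)
  · refine (Gor18.gor_congr ?_).2 h
    exact (Ideal.quotEquivOfEq (by rw [Ideal.map_ofList]; rfl)).trans
      (DoubleQuot.quotQuotEquivQuotSup N (Ideal.ofList rs))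

variable {I : Ideal A} (hCM : LocCoh.IsCohenMacaulayModule A (A ⧸ I))
  (hdim : supportDim A (A ⧸ I) = supportDim A A)

include hCM hdim in
/-- The linked quotient is Cohen–Macaulay. -/
theorem cm_linked (hJ : Submodule.annihilator I ≤ maximalIdeal A) :
    LocCoh.IsCohenMacaulayLocalRing (A ⧸ Submodule.annihilator I) := by
  set N := Submodule.annihilator I
  obtain ⟨n, hn⟩ := Gor18.gor_cm.exists_ringKrullDim_eq_nat A
  obtain ⟨rs, hlen, hm, hr⟩ := Gor18.exists_regular_sequence_of_gor n A hn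
  have hw := (regQ_iff _ rs).1 (regQ_annihilator hCM hdim rs hm hr)
  have : Nontrivial (A ⧸ N) := Ideal.Quotient.nontrivial_iff.2 fun e =>
    (maximalIdeal.isMaximal A).ne_top (top_le_iff.1 (e ▸ hJ))
  have : IsLocalRing (A ⧸ N) := IsLocalRing.of_surjective' _ Ideal.Quotient.mk_surjective
  have hloc : IsLocalHom (algebraMap A (A ⧸ N)) := IsLocalHom.of_surjective _ Ideal.Quotient.mk_surjective
  have h2 := EGA4Alg4.length_le_depth (A := A ⧸ N) (M := A ⧸ N)
    ((isWeaklyRegular_map_algebraMap_iff (A ⧸ N) (A ⧸ N) rs).2 hw) (fun x hx => by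
      obtain ⟨r, hr', rfl⟩ := List.mem_map.1 hx
      exact fun hu => hm r hr' (hloc.map_nonunit r hu))
  rw [CAlg1.cmLocal_iff]
  refine (ringKrullDim_quotient_le N).trans (hn.trans_le ?_)
  rw [List.length_map, hlen] at h2
  exact_mod_cast h2

/-- A quotient by the annihilator of an almost complete intersection is Gorenstein. -/
theorem gor_linked_principal {f : A} (hCM : LocCoh.IsCohenMacaulayModule A (A ⧸ Ideal.span {f}))
    (hdim : supportDim A (A ⧸ Ideal.span {f}) = supportDim A A)
    (hJ : Submodule.annihilator (Ideal.span {f}) ≤ maximalIdeal A) :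
    LocCoh.IsGorensteinLocalRing (A ⧸ Submodule.annihilator (Ideal.span {f})) := by
  set N := Submodule.annihilator (Ideal.span {f})
  obtain ⟨ts, hm, h, hG, hA⟩ := exists_cut ([] : List A) (by simp) (IsWeaklyRegular.nil A A)
  rw [List.nil_append] at hm h hG hA
  set Q := Ideal.ofList ts
  let π := Ideal.Quotient.mk Q
  have hcomap : ∀ a : A, π a ∈ (Submodule.span (A ⧸ Q) {π f}).annihilator ↔ a ∈ N ⊔ Q := fun a => by
    rw [Submodule.mem_annihilator_span_singleton, smul_eq_mul, ← map_mul, Ideal.Quotient.eq_zero_iff_mem]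
    constructor
    · intro ha
      refine colon_eq hCM hdim ts hm h a fun i hi => ?_
      obtain ⟨c, rfl⟩ := Ideal.mem_span_singleton'.1 hi
      rw [mul_left_comm]
      exact Ideal.mul_mem_left _ _ ha
    · intro ha
      obtain ⟨x, hx, y, hy, rfl⟩ := Submodule.mem_sup.1 ha
      rw [add_mul]
      refine add_mem ?_ (Ideal.mul_mem_right _ _ hy)
      rw [show x * f = 0 from Submodule.mem_annihilator.1 hx f (Ideal.mem_span_singleton_self f)]
      exact zero_mem _
  refine gor_of_cut hJ hm (regQ_annihilator hCM hdim ts hm h) ?_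
  have hf : π f ≠ 0 := fun h0 => by
    have h1 : (1 : A) ∈ N ⊔ Q := (hcomap 1).1 (by
      rw [map_one, Submodule.mem_annihilator_span_singleton, one_smul]; exact h0)
    exact (maximalIdeal.isMaximal A).ne_top
      ((Ideal.eq_top_iff_one _).2 (sup_le hJ (EGA4Alg4.ofList_le hm) h1))
  have := gor_quot_ann hf
  refine (Gor18.gor_congr ?_).2 this
  refine (Ideal.quotEquivOfEq ?_).trans (RingHom.quotientKerEquivOfSurjective
    (f := (Ideal.Quotient.mk (Submodule.span (A ⧸ Q) {π f}).annihilator).comp π)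
    (Ideal.Quotient.mk_surjective.comp Ideal.Quotient.mk_surjective))
  ext a
  rw [RingHom.mem_ker, RingHom.comp_apply, Ideal.Quotient.eq_zero_iff_mem, hcomap]

/-- The intersection of two geometrically linked quotients is Gorenstein. -/
theorem gor_sup_linked {I J : Ideal A} (hI : LocCoh.IsCohenMacaulayModule A (A ⧸ I))
    (hId : supportDim A (A ⧸ I) = supportDim A A) (hJ : LocCoh.IsCohenMacaulayModule A (A ⧸ J))
    (hJd : supportDim A (A ⧸ J) = supportDim A A) (hIJ : I ⊓ J = ⊥)
    (hannI : Submodule.annihilator I = J) (hannJ : Submodule.annihilator J = I)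
    (hle : I ⊔ J ≤ maximalIdeal A) {y : A} (hy : y ∈ I ⊔ J) (hreg : IsSMulRegular A y) :
    LocCoh.IsGorensteinLocalRing (A ⧸ (I ⊔ J)) ∧ ∃ xs : List A, (∀ r ∈ xs, r ∈ maximalIdeal A) ∧
      RegQ (I ⊔ J) xs ∧ IsArtinianRing (A ⧸ Ideal.ofList (y :: xs)) := by
  obtain ⟨i₀, hi₀, j₀, hj₀, hyij⟩ := Submodule.mem_sup.1 hy
  have hmul : ∀ i ∈ I, ∀ j ∈ J, i * j = 0 := fun i hi j hj => by
    have h : i * j ∈ I ⊓ J := ⟨Ideal.mul_mem_right _ _ hi, Ideal.mul_mem_left _ _ hj⟩
    rwa [hIJ, Submodule.mem_bot] at h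
  obtain ⟨xs, hm, h, hG, hA⟩ := exists_cut [y] (fun r hr => by rw [List.mem_singleton.1 hr]; exact hle hy)
    ((isWeaklyRegular_singleton_iff A y).2 hreg)
  rw [List.singleton_append] at hm h hG hA
  have hmx : ∀ r ∈ xs, r ∈ maximalIdeal A := fun r hr => hm r (List.mem_cons_of_mem _ hr)
  have h' : RegQ (⊥ : Ideal A) (xs ++ [y]) := (regQ_bot_iff _).2
    (IsLocalRing.isWeaklyRegular_of_perm_of_subset_maximalIdeal h
      (List.perm_append_singleton y xs).symm hm)
  -- every prefix followed by `y` is regular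
  have hpre : ∀ ps rest : List A, xs = ps ++ rest →
      RegQ (⊥ : Ideal A) ps ∧ ∀ a, y * a ∈ Ideal.ofList ps → a ∈ Ideal.ofList ps := by
    intro ps rest he
    subst he
    have h1 : IsWeaklyRegular A ((y :: ps) ++ rest) := by simpa using h
    rw [isWeaklyRegular_append_iff] at h1
    have h2 := regQ_append.1 ((regQ_bot_iff _).2
      (IsLocalRing.isWeaklyRegular_of_perm_of_subset_maximalIdeal h1.1
        (List.perm_append_singleton y ps).symm fun r hr => hm r (by
          rcases List.mem_cons.1 hr with rfl | hr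
          · exact List.mem_cons_self
          · exact List.mem_cons_of_mem _ (List.mem_append_left _ hr))))
    exact ⟨h2.1, fun a ha => by simpa using h2.2 a (by simpa using ha)⟩
  -- the intersection stays transversal
  have hinf : ∀ ps rest : List A, xs = ps ++ rest → ∀ a,
      a ∈ I ⊔ Ideal.ofList ps → a ∈ J ⊔ Ideal.ofList ps → a ∈ Ideal.ofList ps := by
    intro ps rest he a haI haJ
    refine (hpre ps rest he).2 a ?_
    obtain ⟨i, hi, p, hp, rfl⟩ := Submodule.mem_sup.1 haI
    obtain ⟨j, hj, p', hp', hjp⟩ := Submodule.mem_sup.1 haJ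
    have h1 : i₀ * (i + p) = i₀ * p' := by rw [← hjp, mul_add, hmul i₀ hi₀ j hj, zero_add]
    have h2 : j₀ * (i + p) = j₀ * p := by rw [mul_add, mul_comm j₀ i, hmul i hi j₀ hj₀, zero_add]
    rw [← hyij, add_mul, h1, h2]
    exact add_mem (Ideal.mul_mem_left _ _ hp') (Ideal.mul_mem_left _ _ hp)
  have hregsup : ∀ ps rest : List A, xs = ps ++ rest → RegQ (I ⊔ J) ps := by
    intro ps
    induction ps using List.reverseRecOn with
    | nil => exact fun _ _ => regQ_nil _
    | append_singleton ps x ih =>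
      intro rest he
      have he' : xs = ps ++ ([x] ++ rest) := by rw [he, List.append_assoc]
      refine regQ_append.2 ⟨ih _ he', fun a ha => ?_⟩
      have hps : ∀ r ∈ ps ++ [x], r ∈ maximalIdeal A := fun r hr => hmx r (by
        rw [he]; exact List.mem_append_left _ hr)
      have hbot := (hpre _ rest he).1
      have hwA := (regQ_bot_iff _).1 hbot
      obtain ⟨hbot', hxA⟩ := regQ_append.1 hbot
      rw [bot_sup_eq] at hxA
      obtain ⟨-, hxI⟩ := regQ_append.1 (regQ_of_regular hI hId _ hps hwA)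
      obtain ⟨-, hxJ⟩ := regQ_append.1 (regQ_of_regular hJ hJd _ hps hwA)
      obtain ⟨w, hw, p, hp, hwp⟩ := Submodule.mem_sup.1 ha
      obtain ⟨i, hi, j, hj, rfl⟩ := Submodule.mem_sup.1 hw
      have hmem : i ∈ Ideal.ofList (ps ++ [x]) := by
        refine hinf _ rest he i (Submodule.mem_sup_left hi) ?_
        rw [show i = -j + (x * a - p) by linear_combination hwp]
        refine Submodule.add_mem_sup (neg_mem hj) ?_
        rw [Ideal.ofList_append, Ideal.ofList_singleton]
        exact sub_mem (Ideal.mem_sup_right (Ideal.mul_mem_right _ _ (Ideal.mem_span_singleton_self x)))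
          (Ideal.mem_sup_left hp)
      rw [Ideal.ofList_append, Ideal.ofList_singleton] at hmem
      obtain ⟨p₁, hp₁, z, hz, hzi⟩ := Submodule.mem_sup.1 hmem
      obtain ⟨b, rfl⟩ := Ideal.mem_span_singleton'.1 hz
      have hb : b ∈ I ⊔ Ideal.ofList ps := hxI b (by
        rw [show x * b = i + (-p₁) by linear_combination hzi]
        exact Submodule.add_mem_sup hi (neg_mem hp₁))
      have hab : a - b ∈ J ⊔ Ideal.ofList ps := hxJ (a - b) (by
        rw [show x * (a - b) = j + (p₁ + p) by linear_combination -hwp - hzi]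
        exact Submodule.add_mem_sup hj (add_mem hp₁ hp))
      rw [show a = b + (a - b) by ring]
      exact add_mem (SetLike.le_def.1 (sup_le_sup_right le_sup_left _) hb) (SetLike.le_def.1 (sup_le_sup_right le_sup_right _) hab)
  refine ⟨gor_of_cut hle hmx (hregsup xs [] (List.append_nil xs).symm) ?_,
    xs, hmx, hregsup xs [] (List.append_nil xs).symm, hA⟩
  set Q := Ideal.ofList (y :: xs) with hQ
  have hQ' : Q = Ideal.ofList xs ⊔ Ideal.span {y} := by rw [hQ, Ideal.ofList_cons, sup_comm]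
  have hsup : I ⊔ J ⊔ Ideal.ofList xs = I ⊔ J ⊔ Q := by
    rw [hQ']
    exact le_antisymm (sup_le_sup_left le_sup_left _) (sup_le le_sup_left (sup_le le_sup_right
      (le_sup_of_le_left ((Ideal.span_singleton_le_iff_mem _).2 hy))))
  let π := Ideal.Quotient.mk Q
  have hyQ : y ∈ Q := Ideal.subset_span List.mem_cons_self
  have hcomap : ∀ a : A, π a ∈ (Submodule.span (A ⧸ Q) {π i₀}).annihilator ↔ a ∈ I ⊔ J ⊔ Q := fun a => by
    rw [Submodule.mem_annihilator_span_singleton, smul_eq_mul, ← map_mul, Ideal.Quotient.eq_zero_iff_mem]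
    constructor
    · intro ha
      have h1 : π a ∈ (I ⊔ J).map π := by
        refine Liaison54.annihilator_annihilator_le _ fun z hz => ?_
        obtain ⟨z, rfl⟩ := Ideal.Quotient.mk_surjective z
        have hz' : ∀ t ∈ I ⊔ J, z * t ∈ Q := fun t ht => by
          rw [← Ideal.Quotient.eq_zero_iff_mem, map_mul]
          exact hz _ (Ideal.mem_map_of_mem π ht)
        rw [← map_mul, Ideal.Quotient.eq_zero_iff_mem]
        obtain ⟨j, hj, u, hu, hju⟩ := Submodule.mem_sup.1 (show z ∈ J ⊔ Q by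
          rw [← hannI]; exact colon_eq hI hId _ hm h z fun i hi => hz' i (Submodule.mem_sup_left hi))
        obtain ⟨i, hi, v, hv, hiv⟩ := Submodule.mem_sup.1 (show z ∈ I ⊔ Q by
          rw [← hannJ]; exact colon_eq hJ hJd _ hm h z fun j hj => hz' j (Submodule.mem_sup_right hj))
        have huv : u - v ∈ Ideal.ofList xs ⊔ Ideal.span {y} := hQ' ▸ sub_mem hu hv
        obtain ⟨p, hp, w, hw, hpw⟩ := Submodule.mem_sup.1 huv
        obtain ⟨t, rfl⟩ := Ideal.mem_span_singleton'.1 hw
        have h2 : i - t * i₀ ∈ Ideal.ofList xs := by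
          refine hinf xs [] (List.append_nil xs).symm _
            (Submodule.mem_sup_left (sub_mem hi (Ideal.mul_mem_left _ _ hi₀))) ?_
          rw [show i - t * i₀ = (j + t * j₀) + p by linear_combination hiv - hju - hpw - t * hyij]
          exact Submodule.add_mem_sup (add_mem hj (Ideal.mul_mem_left _ _ hj₀)) hp
        rw [show a * z = t * (a * i₀) + a * (i - t * i₀ + v) by linear_combination -a * hiv]
        exact add_mem (Ideal.mul_mem_left _ _ ha)
          (Ideal.mul_mem_left _ _ (add_mem (hQ' ▸ Submodule.mem_sup_left h2) hv))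
      rw [← Ideal.mem_comap, Ideal.comap_map_of_surjective _ Ideal.Quotient.mk_surjective,
        ← RingHom.ker_eq_comap_bot, Ideal.mk_ker] at h1
      exact h1
    · intro ha
      obtain ⟨w, hw, q, hq, rfl⟩ := Submodule.mem_sup.1 ha
      obtain ⟨i, hi, j, hj, rfl⟩ := Submodule.mem_sup.1 hw
      rw [show (i + j + q) * i₀ = y * i - i * j₀ + i₀ * j + q * i₀ by linear_combination i * hyij,
        hmul i hi j₀ hj₀, hmul i₀ hi₀ j hj, sub_zero, add_zero]
      exact add_mem (Ideal.mul_mem_right _ _ hyQ) (Ideal.mul_mem_right _ _ hq)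
  rw [hsup]
  have hf : π i₀ ≠ 0 := fun h0 => by
    have h1 : (1 : A) ∈ I ⊔ J ⊔ Q := (hcomap 1).1 (by
      rw [map_one, Submodule.mem_annihilator_span_singleton, one_smul]; exact h0)
    exact (maximalIdeal.isMaximal A).ne_top
      ((Ideal.eq_top_iff_one _).2 (sup_le hle (EGA4Alg4.ofList_le hm) h1))
  have := gor_quot_ann hf
  refine (Gor18.gor_congr ?_).2 this
  refine (Ideal.quotEquivOfEq ?_).trans (RingHom.quotientKerEquivOfSurjective
    (f := (Ideal.Quotient.mk (Submodule.span (A ⧸ Q) {π i₀}).annihilator).comp π)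
    (Ideal.Quotient.mk_surjective.comp Ideal.Quotient.mk_surjective))
  ext a
  rw [RingHom.mem_ker, RingHom.comp_apply, Ideal.Quotient.eq_zero_iff_mem, hcomap]

end Groth.Agent.Link31
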